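import Cfsg.Agent.Lib.RootCent.Basic

/-! Centralisers of root elements, in the notation of the datum. -/

set_option autoImplicit false
set_option linter.unusedSectionVars false

open Cfsg.Lie Cfsg.Agent.Lib.ChevStructure
open scoped MatrixGroups

namespace Cfsg.Agent.Lib.RootCent.Apply

open Cfsg.Agent.Lib.RootCent.Basic

variable {D : ChevalleyDatum}

/-- The certified conditions, with the fundamental roots read off the datum. -/
def CertD (D : ChevalleyDatum) (hs : ∀ i : Fin D.rank, D.simple i.val < D.nroots)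
    (Z : List (Rt D)) (S : List ℕ) : Prop :=
  Cert D (fun i => ⟨D.simple i.val, hs i⟩) Z ∧
    (∀ s : Rt D, (∃ j, (∀ z ∈ Z, A D j z = 0) ∧ s = (⟨D.simple j.val, hs j⟩ : Rt D).rev) ↔ s.val ∈ S) ∧
    (∀ n ∈ S, n < D.nroots)

instance certDDecidable (D : ChevalleyDatum) (hs : ∀ i : Fin D.rank, D.simple i.val < D.nroots)
    (Z : List (Rt D)) (S : List ℕ) : Decidable (CertD D hs Z S) := by
  have : DecidablePred fun s : Rt D =>
      (∃ j, (∀ z ∈ Z, A D j z = 0) ∧ s = (⟨D.simple j.val, hs j⟩ : Rt D).rev) ↔ s.val ∈ S :=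
    fun s => by infer_instance
  unfold CertD; infer_instance

theorem closure_form (C : Core D) {F : Type*} [Field F] (S : List ℕ) (hS : ∀ n ∈ S, n < D.nroots) :
    Subgroup.closure {g : GL D.Idx F | ∃ s ∈ S, ∃ c : F, (g : Matrix D.Idx D.Idx F) = D.x F s c} =
      C.US F {r : Rt D | r.val ∈ S} := by
  rw [← C.closure_eq_US (fun r => r ∈ S) hS]
  congr 1
  ext g
  exact ⟨fun ⟨s, hs, c, h⟩ => ⟨s, c, hs, h⟩, fun ⟨s, c, hs, h⟩ => ⟨s, hs, c, h⟩⟩

theorem centralizer_form {C : Core D} (H : CommOK C) {F : Type*} [Field F] [CharP F 2]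
    {hs : ∀ i : Fin D.rank, D.simple i.val < D.nroots} {Z : List (Rt D)} {S : List ℕ}
    (hc : CertD D hs Z S)
    (hsep : ∀ m : GL D.Idx F, ∀ σ : Equiv.Perm (Rt D), C.Acts m σ →
      m * zElt C Z F * m⁻¹ = zElt C Z F → ∀ r ∈ Z, m * C.X F r 1 * m⁻¹ = C.X F r 1) :
    D.group F ⊓ Subgroup.centralizer {zElt C Z F} = D.posUnipotent F ⊔
      Subgroup.closure {g : GL D.Idx F | ∃ s ∈ S, ∃ c : F, (g : Matrix D.Idx D.Idx F) = D.x F s c} := by
  obtain ⟨h1, h2, h3⟩ := hc
  have hp : C.p = fun i => (⟨D.simple i.val, hs i⟩ : Rt D) := funext fun i => Fin.ext (C.simple_eq i).symm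
  rw [centralizer_eq Z H (hp ▸ h1) hsep, closure_form C S h3, C.posUnipotent_eq, US_union, hp]
  congr 2
  ext s
  exact h2 s

theorem zElt_singleton (C : Core D) {F : Type*} [Field F] (r : Rt D) : zElt C [r] F = C.X F r 1 := by
  simp [zElt]

theorem sep_singleton (C : Core D) {F : Type*} [Field F] (r : Rt D) :
    ∀ m : GL D.Idx F, ∀ σ : Equiv.Perm (Rt D), C.Acts m σ →
      m * zElt C [r] F * m⁻¹ = zElt C [r] F → ∀ s ∈ [r], m * C.X F s 1 * m⁻¹ = C.X F s 1 := by
  intro m σ _ h s hs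
  rw [List.mem_singleton] at hs
  subst hs
  rwa [zElt_singleton] at h

/-- The centraliser of a single root element. -/
theorem centralizer_single {C : Core D} (H : CommOK C) {F : Type*} [Field F] [CharP F 2]
    {hs : ∀ i : Fin D.rank, D.simple i.val < D.nroots} {r : Rt D} {S : List ℕ}
    (hc : CertD D hs [r] S) {t : GL D.Idx F} (ht : (t : Matrix D.Idx D.Idx F) = D.x F r.val 1) :
    D.group F ⊓ Subgroup.centralizer {t} = D.posUnipotent F ⊔
      Subgroup.closure {g : GL D.Idx F | ∃ s ∈ S, ∃ c : F, (g : Matrix D.Idx D.Idx F) = D.x F s c} := by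
  rw [C.eq_X ht, ← zElt_singleton C r]
  exact centralizer_form H hc (sep_singleton C r)

theorem sup_root_form (C : Core D) {F : Type*} [Field F] (T : Subgroup (GL D.Idx F)) :
    ∀ S : List ℕ, (∀ n ∈ S, n < D.nroots) → S.foldl (fun acc n => acc ⊔ D.rootSubgroup F n) T =
      T ⊔ Subgroup.closure {g : GL D.Idx F | ∃ s ∈ S, ∃ c : F, (g : Matrix D.Idx D.Idx F) = D.x F s c}
  | [], _ => by simp
  | a :: S, h => by
      rw [List.foldl_cons, sup_root_form C _ S (fun n hn => h n (List.mem_cons_of_mem _ hn)), sup_assoc,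
        ChevalleyDatum.rootSubgroup, ← Subgroup.closure_union]
      congr 2
      ext g
      simp only [Set.mem_union, Set.mem_ofPred_eq, List.mem_cons, exists_eq_or_imp]

end Cfsg.Agent.Lib.RootCent.Apply
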