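import Cfsg.Agent.Lib.ChevStructure.BN

/-! Centralisers of products of commuting root elements central in `U`, in characteristic two. -/

set_option autoImplicit false
set_option linter.unusedSectionVars false

open Cfsg.Lie Cfsg.Agent.Lib.ChevStructure
open scoped MatrixGroups
open DoubleCoset

namespace Cfsg.Agent.Lib.RootCent.Basic

variable {D : ChevalleyDatum}

/-- The commutator word of two roots has even coefficients. -/
def EvenTerms (D : ChevalleyDatum) (r s : Rt D) : Prop := ∀ c ∈ D.commTerms r.val s.val, c.2.1 % 2 = 0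

/-- The fundamental indices orthogonal to all roots of `Z`. -/
def Jset (D : ChevalleyDatum) (Z : List (Rt D)) : Set (Fin D.rank) := {i | ∀ r ∈ Z, A D i r = 0}

/-- The certified conditions on the roots in `Z`, given the list of fundamental roots `P`. -/
def Cert (D : ChevalleyDatum) (p : Fin D.rank → Rt D) (Z : List (Rt D)) : Prop :=
  (∀ r ∈ Z, ∀ s : Rt D, 2 * s.val < D.nroots → pr D s r ≤ 0) ∧
  (∀ r ∈ Z, ∀ s : Rt D, (D.nroots ≤ 2 * s.val ∨ ∃ j, (∀ z ∈ Z, A D j z = 0) ∧ s = (p j).rev) →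
    s = r ∨ (s ≠ r.rev ∧ EvenTerms D r s)) ∧
  (∀ i, (∀ r ∈ Z, A D i r = 0) ∨ ∃ r ∈ Z, ∀ j, A D j r = if j = i then 1 else 0)

instance certDecidable (D : ChevalleyDatum) (p : Fin D.rank → Rt D) (Z : List (Rt D)) :
    Decidable (Cert D p Z) := by
  have : DecidablePred fun r : Rt D => ∀ s : Rt D,
      (D.nroots ≤ 2 * s.val ∨ ∃ j, (∀ z ∈ Z, A D j z = 0) ∧ s = (p j).rev) →
        s = r ∨ (s ≠ r.rev ∧ EvenTerms D r s) := fun r => by
    unfold EvenTerms; infer_instance
  unfold Cert; infer_instance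

variable (C : Core D) (Z : List (Rt D))

/-- The set of roots `±p_j`, `j` orthogonal to `Z`. -/
def levi : Set (Rt D) := {s | ∃ j ∈ Jset D Z, s = C.p j ∨ s = (C.p j).rev}

variable {F : Type*} [Field F]

/-- The product of the root elements of `Z`. -/
def zElt (F : Type*) [Field F] : GL D.Idx F := (Z.map fun r => C.X F r 1).prod

theorem X_inj {r : Rt D} {a b : F} (h : C.X F r a = C.X F r b) : a = b := by
  have : C.X F r (a - b) = 1 := by
    rw [sub_eq_add_neg, ← C.X_add, h, C.X_add, add_neg_cancel, C.X_zero]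
  exact sub_eq_zero.1 (C.X_eq_one this)

theorem US_union (S T : Set (Rt D)) : C.US F S ⊔ C.US F T = C.US F (S ∪ T) := by
  refine le_antisymm (sup_le (C.US_mono F Set.subset_union_left) (C.US_mono F Set.subset_union_right))
    ((Subgroup.closure_le _).2 ?_)
  rintro g ⟨r, hr | hr, t, rfl⟩
  · exact Subgroup.mem_sup_left (C.X_mem_US F hr t)
  · exact Subgroup.mem_sup_right (C.X_mem_US F hr t)

theorem nR_mem_levi {j : Fin D.rank} (hj : j ∈ Jset D Z) (u : Fˣ) :
    C.nR F (C.p j) u ∈ C.US F (levi C Z) :=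
  mul_mem (mul_mem (C.X_mem_US F (S := levi C Z) ⟨j, hj, Or.inl rfl⟩ _)
    (C.X_mem_US F (S := levi C Z) ⟨j, hj, Or.inr rfl⟩ _)) (C.X_mem_US F (S := levi C Z) ⟨j, hj, Or.inl rfl⟩ _)

theorem HT_mem_levi {c : Fin D.rank → Fˣ} (hc : ∀ i, i ∉ Jset D Z → c i = 1) :
    C.HT F c ∈ C.US F (levi C Z) := by
  rw [C.HT_list]
  refine list_prod_mem fun g hg => ?_
  rw [List.mem_map] at hg
  obtain ⟨i, -, rfl⟩ := hg
  by_cases hi : i ∈ Jset D Z
  · rw [← C.hR_eq]
    exact mul_mem (nR_mem_levi C Z hi _) (nR_mem_levi C Z hi _)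
  · rw [hc i hi, Core.hD]
    have : (fun s => (1 : Fˣ) ^ pr D (C.p i) s) = fun _ => 1 := by funext s; simp
    rw [this, show (fun _ : Rt D => (1 : Fˣ)) = 1 from rfl, show Core.diag F (1 : Rt D → Fˣ) = 1 from C.diag_one F]
    exact one_mem _

/-- An element of `N` fixing the roots of `Z` lies in `H · ⟨X_{±p_j}⟩`. -/
theorem wprod_mem (hdom : ∀ r ∈ Z, ∀ s : Rt D, 2 * s.val < D.nroots → pr D s r ≤ 0) :
    ∀ (n : ℕ) (L : List (Fin D.rank)), L.length ≤ n → (∀ r ∈ Z, C.pprod L r = r) →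
      C.wprod F L ∈ D.diagonalSubgroup F ⊔ C.US F (levi C Z) := by
  intro n
  induction n with
  | zero =>
    intro L hL _
    rw [List.length_eq_zero_iff.1 (Nat.le_zero.1 hL)]
    exact one_mem _
  | succ n ih =>
    intro L hL hfix
    by_cases h1 : C.pprod L = 1
    · obtain ⟨c, hc⟩ := C.wprod_eq_HT_of_pprod_eq_one F h1
      rw [hc]
      exact Subgroup.mem_sup_left (C.HT_mem_diagonal c)
    obtain ⟨i, hi⟩ := C.exists_descent h1
    have hJ : i ∈ Jset D Z := by
      intro r hr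
      have h2 := hdom r hr _ hi
      conv_lhs at h2 => rw [← hfix r hr]
      rw [C.pprod_pr, C.pr_p] at h2
      have h3 := hdom r hr _ (C.rev_neg (C.p_pos i))
      rw [C.pr_rev, C.pr_p] at h3
      omega
    obtain ⟨L', c, hl, hw, hp⟩ := C.exchange F L i hi
    have hfix' : ∀ r ∈ Z, C.pprod L' r = r := fun r hr => by
      have : C.w i r = r := C.v_inj (by rw [C.v_w, hJ r hr, zero_smul, sub_zero])
      rw [← hp, Equiv.Perm.mul_apply, C.sref_apply, this, hfix r hr]
    have hP : C.P F i ∈ D.diagonalSubgroup F ⊔ C.US F (levi C Z) :=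
      Subgroup.mem_sup_right (nR_mem_levi C Z hJ 1)
    rw [eq_mul_inv_of_mul_eq hw]
    exact mul_mem (mul_mem (Subgroup.mem_sup_left (C.HT_mem_diagonal c)) (ih L' (by omega) hfix'))
      (inv_mem hP)

variable {C} (H : CommOK C)
include H

theorem commute_X [CharP F 2] {r s : Rt D} (hne : s ≠ r.rev) (he : s ≠ r → EvenTerms D r s) (t u : F) :
    Commute (C.X F r t) (C.X F s u) := by
  by_cases hrs : s = r
  · subst hrs
    show _ = _
    rw [C.X_add, C.X_add, add_comm]
  have h := H.comm_X r s hrs hne t u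
  have hprod : ((D.commTerms r.val s.val).map fun c =>
      C.XN F c.1 ((c.2.1 : F) * (-t) ^ c.2.2.1 * u ^ c.2.2.2)).prod = 1 := by
    refine List.prod_eq_one fun g hg => ?_
    rw [List.mem_map] at hg
    obtain ⟨c, hc, rfl⟩ := hg
    have h0 : ((c.2.1 : ℤ) : F) = 0 :=
      (CharP.intCast_eq_zero_iff F 2 _).2 (Int.dvd_of_emod_eq_zero (he hrs c hc))
    unfold Core.XN
    split_ifs with hk
    · rw [h0, zero_mul, zero_mul, C.X_zero]
    · rfl
  rw [hprod, mul_one] at h
  exact h.symm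

/-- The centraliser of a product of root elements central in `U`. -/
theorem centralizer_eq [CharP F 2] (hc : Cert D C.p Z)
    (hsep : ∀ m : GL D.Idx F, ∀ σ : Equiv.Perm (Rt D), C.Acts m σ →
      m * zElt C Z F * m⁻¹ = zElt C Z F → ∀ r ∈ Z, m * C.X F r 1 * m⁻¹ = C.X F r 1) :
    D.group F ⊓ Subgroup.centralizer {zElt C Z F} =
      C.US F (C.Pos ∪ {s | ∃ j ∈ Jset D Z, s = (C.p j).rev}) := by
  obtain ⟨hdom, hcom, hA⟩ := hc
  have hfix1 : ∀ r ∈ Z, C.US F (C.Pos ∪ {s | ∃ j ∈ Jset D Z, s = (C.p j).rev}) ≤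
      Subgroup.centralizer {C.X F r 1} := by
    intro r hr
    refine (Subgroup.closure_le _).2 ?_
    rintro x ⟨s, hs, t, rfl⟩
    rw [SetLike.mem_coe, Subgroup.mem_centralizer_singleton_iff]
    have hs' : D.nroots ≤ 2 * s.val ∨ ∃ j, (∀ z ∈ Z, A D j z = 0) ∧ s = (C.p j).rev := by
      rcases hs with hs | ⟨j, hj, hs⟩
      · exact Or.inl hs
      · exact Or.inr ⟨j, hj, hs⟩
    rcases hcom r hr s hs' with h | ⟨h1, h2⟩
    · subst h
      exact ((commute_X H (fun e => C.ne_rev s e.symm) (fun e => absurd rfl e) 1 t).eq).symm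
    · exact ((commute_X H h1 (fun _ => h2) 1 t).eq).symm
  have hlevi : C.US F (levi C Z) ≤ C.US F (C.Pos ∪ {s | ∃ j ∈ Jset D Z, s = (C.p j).rev}) := by
    refine C.US_mono F ?_
    rintro s ⟨j, hj, rfl | rfl⟩
    · exact Or.inl (C.p_pos j)
    · exact Or.inr ⟨j, hj, rfl⟩
  have hfix : ∀ x ∈ C.US F (C.Pos ∪ {s | ∃ j ∈ Jset D Z, s = (C.p j).rev}),
      Commute x (zElt C Z F) := by
    intro x hx
    refine Commute.list_prod_right _ _ fun g hg => ?_
    rw [List.mem_map] at hg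
    obtain ⟨r, hr, rfl⟩ := hg
    exact Subgroup.mem_centralizer_singleton_iff.1 (hfix1 r hr hx)
  refine le_antisymm ?_ (le_inf (C.US_le_group _) fun x hx =>
    Subgroup.mem_centralizer_singleton_iff.2 (hfix x hx).eq)
  intro g hgg
  obtain ⟨hg, hgz⟩ := Subgroup.mem_inf.1 hgg
  rw [Subgroup.mem_centralizer_singleton_iff] at hgz
  obtain ⟨n, hn, hgn⟩ := H.exists_bruhat hg
  obtain ⟨a, ha, b, hb, rfl⟩ := mem_doubleCoset.1 hgn
  obtain ⟨v, hv, k, hk, rfl⟩ := C.mem_borel_iff.1 ha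
  obtain ⟨v', hv', k', hk', rfl⟩ := C.mem_borel_iff.1 hb
  -- move the torus part of the right factor into `N`
  set m := k * n * k' with hm_def
  set v'' := k'⁻¹ * v' * k' with hv''_def
  have hv'' : v'' ∈ C.US F C.Pos :=
    (Subgroup.mem_normalizer_iff.1 (inv_mem (C.diag_le_normalizer C.Pos hk')) v').1 hv' |> fun h => by
      simpa [hv''_def] using h
  have hgm : v * k * n * (v' * k') = v * m * v'' := by
    simp only [hm_def, hv''_def, mul_assoc, mul_inv_cancel_left]
  rw [hgm] at hgz ⊢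
  have hU : ∀ x ∈ C.US F C.Pos, Commute x (zElt C Z F) := fun x hx =>
    hfix x (C.US_mono F Set.subset_union_left hx)
  have hmz : m * zElt C Z F * m⁻¹ = zElt C Z F := by
    have e1 : Commute m (zElt C Z F) := by
      have : m = v⁻¹ * (v * m * v'') * v''⁻¹ := by group
      rw [this]
      exact (((hU v hv).inv_left.mul_left hgz)).mul_left (hU v'' hv'').inv_left
    rw [e1.eq, mul_inv_cancel_right]
  have hmN : m ∈ D.monomialSubgroup F :=
    mul_mem (mul_mem (Subgroup.mem_sup_left hk) hn) (Subgroup.mem_sup_left hk')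
  obtain ⟨c, L, hmL⟩ := C.exists_word_monomial hmN
  have hact : C.Acts m (C.pprod L) := hmL ▸ C.acts_HT_wprod F c L
  have hfixX := hsep m _ hact hmz
  have hfixroot : ∀ r ∈ Z, C.pprod L r = r := by
    intro r hr
    by_contra hne
    obtain ⟨e, he⟩ := hact r
    have := C.X_eq_X F ((he 1).symm.trans (hfixX r hr)) hne
    rw [mul_one] at this
    exact e.ne_zero this
  have hwl := wprod_mem C Z hdom L.length L le_rfl hfixroot (F := F)
  rw [← SetLike.mem_coe, Subgroup.coe_mul_of_left_le_normalizer_right _ _ (C.diag_le_normalizer _),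
    Set.mem_mul] at hwl
  obtain ⟨d, hd, x, hx, hdx⟩ := hwl
  obtain ⟨c', hc'⟩ := C.mem_diagonal_iff.1 hd
  have hmx : m = C.HT F (c * c') * x := by rw [hmL, ← hdx, hc', ← mul_assoc, C.HT_mul]
  have hchi : ∀ r ∈ Z, C.chA (c * c') r = 1 := by
    intro r hr
    have hxr : x * C.X F r 1 * x⁻¹ = C.X F r 1 := by
      rw [Subgroup.mem_centralizer_singleton_iff.1 (hfix1 r hr (hlevi hx)), mul_inv_cancel_right]
    have h := hfixX r hr
    rw [hmx, mul_inv_rev, show C.HT F (c * c') * x * C.X F r 1 * (x⁻¹ * (C.HT F (c * c'))⁻¹) =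
      C.HT F (c * c') * (x * C.X F r 1 * x⁻¹) * (C.HT F (c * c'))⁻¹ by group, hxr, C.HT_X_conj] at h
    exact Units.ext ((mul_one _).symm.trans (X_inj C h))
  have hc1 : ∀ i, i ∉ Jset D Z → (c * c') i = 1 := by
    intro i hi
    obtain ⟨r, hr, hAr⟩ := (hA i).resolve_left hi
    have := hchi r hr
    rw [Core.chA, Finset.prod_eq_single i (fun j _ hj => by rw [hAr, if_neg hj, zpow_zero]) (by simp),
      hAr, if_pos rfl, zpow_one] at this
    exact this
  refine mul_mem (mul_mem (C.US_mono F Set.subset_union_left hv) ?_) (C.US_mono F Set.subset_union_left hv'')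
  rw [hmx]
  exact hlevi (mul_mem (HT_mem_levi C Z hc1) hx)

end Cfsg.Agent.Lib.RootCent.Basic
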