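import Cfsg.Agent.Lib.RootCent.Main

/-! The certified centraliser theorem in the notation of the datum. -/

set_option autoImplicit false
set_option linter.unusedSectionVars false

open Cfsg.Lie Cfsg.Agent.Lib.ChevStructure
open scoped MatrixGroups

namespace Cfsg.Agent.Lib.RootCent.Form

open Cfsg.Agent.Lib.RootCent.Basic Cfsg.Agent.Lib.RootCent.General

variable {D : ChevalleyDatum}

instance chainDecidable (D : ChevalleyDatum) (R : List (Rt D)) : ∀ M : List (Rt D), Decidable (Chain D R M)
  | [] => isTrue trivial
  | m :: M => by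
    have := chainDecidable D R M
    unfold Chain TermsIn
    infer_instance

instance termsInDecidable (D : ChevalleyDatum) (r s : Rt D) (T : List (Rt D)) : Decidable (TermsIn D r s T) := by
  unfold TermsIn; infer_instance

theorem centralizer_eq {C : Core D} (H : CommOK C) {F : Type*} [Field F] [CharP F 2]
    (hs : ∀ i : Fin D.rank, D.simple i.val < D.nroots)
    {Z T : List (Rt D)} {M : List (Rt D × Rt D)} {R LP LN : List (Rt D)} {K : Fin D.rank → List ℤ}
    (hc : Cert2 D (fun i => (⟨D.simple i.val, hs i⟩ : Rt D)) Z T M R LP LN K) {t : GL D.Idx F}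
    (ht : (t : Matrix D.Idx D.Idx F) = (Z.map fun r => D.x F r.val 1).prod) :
    D.group F ⊓ Subgroup.centralizer {t} = C.US F {x | x ∈ LP ++ LN ++ R} := by
  have hp : C.p = fun i => (⟨D.simple i.val, hs i⟩ : Rt D) := funext fun i => Fin.ext (C.simple_eq i).symm
  have hz : t = zElt C Z F := by
    refine Units.ext (ht.trans ?_)
    rw [zElt, ← Units.coeHom_apply (List.prod _), map_list_prod, List.map_map]
    exact congrArg List.prod (List.map_congr_left fun r _ => (C.X_val_x r 1).symm)
  rw [hz]
  exact Main.centralizer_eq H (hp.symm ▸ hc)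

theorem sup_roots (C : Core D) {F : Type*} [Field F] (r : Rt D) (S : Set (Rt D)) :
    C.US F S ⊔ D.rootSubgroup F r.val = C.US F (S ∪ {r}) := by
  rw [C.rootSubgroup_eq, US_union]

end Cfsg.Agent.Lib.RootCent.Form
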