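import Cfsg.Agent.Lib.RootCent.Basic
import Cfsg.Agent.Lib.RootPairs.LongPair

/-! Centralisers in characteristic two of products of commuting root elements whose centraliser is
`(C_U) · ⟨X_{±p_j}⟩`, from a finite certificate on the root data. -/

set_option autoImplicit false
set_option linter.unusedSectionVars false
set_option linter.unusedDecidableInType false

open Cfsg.Lie Cfsg.Agent.Lib.ChevStructure
open scoped MatrixGroups
open DoubleCoset

namespace Cfsg.Agent.Lib.RootCent.General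

open Cfsg.Agent.Lib.RootCent.Basic
open Cfsg.Agent.Lib.RootPairs.LongPair (IsLong)

variable {D : ChevalleyDatum}

instance evenTermsDecidable (D : ChevalleyDatum) (r s : Rt D) : Decidable (EvenTerms D r s) := by
  unfold EvenTerms; infer_instance

/-- All odd commutator terms of `(r, s)` lie in the listed roots. -/
def TermsIn (D : ChevalleyDatum) (r s : Rt D) (T : List (Rt D)) : Prop :=
  ∀ c ∈ D.commTerms r.val s.val, c.2.1 % 2 = 0 ∨ c.1 ∈ T.map Fin.val

/-- Each root of the first list normalises the group of the later ones and `R`. -/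
def Chain (D : ChevalleyDatum) (R : List (Rt D)) : List (Rt D) → Prop
  | [] => True
  | m :: M => (∀ x ∈ M ++ R, x ≠ m.rev ∧ (x = m ∨ TermsIn D m x (M ++ R))) ∧ Chain D R M

/-- The certificate. -/
structure Cert2 (D : ChevalleyDatum) (p : Fin D.rank → Rt D) (Z T : List (Rt D))
    (M : List (Rt D × Rt D)) (R LP LN : List (Rt D)) (K : Fin D.rank → List ℤ) : Prop where
  nodup : (Z ++ T).Nodup
  pos : ∀ r ∈ Z ++ T, D.nroots ≤ 2 * r.val
  descent : ∀ i, (∃ s : Rt D, 2 * s.val < D.nroots ∧ ∀ r ∈ Z, pr D s r = A D i r) → ∀ r ∈ Z, A D i r = 0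
  torus : ∀ i, (∀ r ∈ Z, A D i r = 0) ∨
    ∀ j, (((K i).zip Z).map fun kr => kr.1 * A D j kr.2).sum = if j = i then 1 else 0
  comm : ∀ r ∈ Z ++ T, ∀ s ∈ Z ++ T, s = r ∨ (s ≠ r.rev ∧ EvenTerms D r s)
  orbit : ∀ s : Rt D, D.nroots ≤ 2 * s.val → ∀ z ∈ Z ++ T, z = s ∨ TermsIn D s z T
  rigid : ∀ f ∈ List.sections (Z.map fun _ => Z ++ T),
    ((∀ a ∈ Z.zip f, ∀ b ∈ Z.zip f, pr D a.1 b.1 = pr D a.2 b.2) ∧
      ∀ a ∈ Z.zip f, (IsLong D a.1 ↔ IsLong D a.2)) → f = Z
  lp : ∀ j, (∀ z ∈ Z, A D j z = 0) → p j ∈ LP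
  ln : ∀ j, (∀ z ∈ Z, A D j z = 0) → (p j).rev ∈ LN
  fixed : ∀ z ∈ Z, ∀ s ∈ LP ++ LN ++ R, s = z ∨ (s ≠ z.rev ∧ EvenTerms D z s)
  cover : ∀ s : Rt D, D.nroots ≤ 2 * s.val ↔ s ∈ LP ++ (M.map Prod.fst ++ R)
  levi_norm : ∀ s ∈ LP ++ LN, ∀ x ∈ M.map Prod.fst ++ R,
    x ≠ s.rev ∧ (x = s ∨ TermsIn D s x (M.map Prod.fst ++ R))
  chain : Chain D R (M.map Prod.fst)
  moves : ∀ mq ∈ M, mq.2 ∈ T ∧
    (∀ z ∈ Z, EvenTerms D z mq.1 ∨
      ∃ c ∈ D.commTerms z.val mq.1.val, D.commTerms z.val mq.1.val = [c] ∧ c.1 = mq.2.val ∧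
        c.2.1 % 2 = 1 ∧ c.2.2.1 = 1 ∧ c.2.2.2 = 1) ∧
    (Z.filter fun z => decide (¬ EvenTerms D z mq.1)).length = 1 ∧
    ∀ mq' ∈ M, mq'.2 ≠ mq.1.rev ∧ (mq'.2 = mq.1 ∨ EvenTerms D mq.1 mq'.2)
  targets : (M.map Prod.snd).Nodup
  sources : ∀ mq ∈ M, ∀ z ∈ Z, z ≠ mq.1 ∧ mq.1 ≠ z.rev

variable {C : Core D} (H : CommOK C) {F : Type*} [Field F] [CharP F 2]
include H

theorem conj_mem' {r s : Rt D} (hne : s ≠ r.rev) {I : List (Rt D)} (hT : s = r ∨ TermsIn D r s I)
    (hs : s ∈ I) (t u : F) :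
    C.X F r t * C.X F s u * (C.X F r t)⁻¹ ∈ C.US F {x | x ∈ I} := by
  by_cases hrs : s = r
  · subst hrs
    rw [C.X_inv, C.X_add, C.X_add, show t + u + -t = u by ring]
    exact C.X_mem_US F (S := {x | x ∈ I}) hs u
  have hT := hT.resolve_left hrs
  have e := H.comm_X r s hrs hne (-t) u
  rw [C.X_inv, mul_assoc, e, ← mul_assoc, ← mul_assoc, C.X_add, add_neg_cancel, C.X_zero, one_mul]
  refine mul_mem (C.X_mem_US F (S := {x | x ∈ I}) hs u) (list_prod_mem fun g hg => ?_)
  rw [List.mem_map] at hg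
  obtain ⟨c, hc, rfl⟩ := hg
  rcases hT c hc with h | h
  · have h0 : ((c.2.1 : ℤ) : F) = 0 :=
      (CharP.intCast_eq_zero_iff F 2 _).2 (Int.dvd_of_emod_eq_zero h)
    unfold Core.XN
    split_ifs with hk
    · rw [h0, zero_mul, zero_mul, C.X_zero]; exact one_mem _
    · exact one_mem _
  · rw [List.mem_map] at h
    obtain ⟨q, hq, hqc⟩ := h
    exact C.XN_mem_US F (S := {x | x ∈ I}) hq hqc.symm _

theorem mem_normalizer' {r : Rt D} {I : List (Rt D)}
    (hI : ∀ s ∈ I, s ≠ r.rev ∧ (s = r ∨ TermsIn D r s I)) (t : F) :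
    C.X F r t ∈ Subgroup.normalizer (C.US F {x | x ∈ I} : Set (GL D.Idx F)) := by
  have key : ∀ (t : F), ∀ g ∈ C.US F {x | x ∈ I}, C.X F r t * g * (C.X F r t)⁻¹ ∈ C.US F {x | x ∈ I} := by
    intro t g hg
    have hle : C.US F {x | x ∈ I} ≤ (C.US F {x | x ∈ I}).comap (MulAut.conj (C.X F r t)).toMonoidHom := by
      refine (Subgroup.closure_le _).2 ?_
      rintro x ⟨s, hs, u, rfl⟩
      rw [SetLike.mem_coe, Subgroup.mem_comap, MulEquiv.coe_toMonoidHom, MulAut.conj_apply]
      exact conj_mem' H (hI s hs).1 (hI s hs).2 hs t u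
    have := hle hg
    rwa [Subgroup.mem_comap, MulEquiv.coe_toMonoidHom, MulAut.conj_apply] at this
  rw [Subgroup.mem_normalizer_iff]
  intro g
  refine ⟨key t g, fun h => ?_⟩
  have := key (-t) _ h
  have e : ∀ g z : GL D.Idx F, g⁻¹ * (g * z * g⁻¹) * (g⁻¹)⁻¹ = z := fun g z => by
    simp only [inv_inv, mul_assoc, inv_mul_cancel, mul_one, inv_mul_cancel_left]
  rwa [← C.X_inv, e] at this

/-- Peeling a chain. -/
theorem exists_peel {R : List (Rt D)} : ∀ {M : List (Rt D)}, Chain D R M →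
    ∀ {g : GL D.Idx F}, g ∈ C.US F {x | x ∈ M ++ R} →
      ∃ a : List F, a.length = M.length ∧ ∃ s ∈ C.US F {x | x ∈ R},
        g = ((M.zip a).map fun ma => C.X F ma.1 ma.2).prod * s
  | [], _, g, hg => ⟨[], rfl, g, hg, by simp⟩
  | m :: M, hM, g, hg => by
    obtain ⟨h1, h2⟩ := hM
    have e : C.US F {x | x ∈ m :: M ++ R} = C.US F {m} ⊔ C.US F {x | x ∈ M ++ R} := by
      rw [US_union]
      congr 1
      ext x
      simp [or_assoc]
    have hn : C.US F {m} ≤ Subgroup.normalizer (C.US F {x | x ∈ M ++ R} : Set (GL D.Idx F)) := by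
      refine (Subgroup.closure_le _).2 ?_
      rintro y ⟨r, hr, t, rfl⟩
      rw [Set.mem_singleton_iff] at hr
      rw [hr]
      exact mem_normalizer' H h1 t
    rw [e, ← SetLike.mem_coe, Subgroup.coe_mul_of_left_le_normalizer_right _ _ hn, Set.mem_mul] at hg
    obtain ⟨y, hy, z, hz, rfl⟩ := hg
    obtain ⟨t, rfl⟩ := C.mem_US_singleton hy
    obtain ⟨a, ha, s, hs, rfl⟩ := exists_peel h2 hz
    exact ⟨t :: a, by simp [ha], s, hs, by simp [mul_assoc]⟩

omit [CharP F 2] in
theorem prod_pos_unique {L : List (Rt D)} (hn : L.Nodup) (hpos : ∀ r ∈ L, r ∈ C.Pos)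
    (f : Rt D → F) (hcomm : ∀ r ∈ L, ∀ s ∈ L, Commute (C.X F r (f r)) (C.X F s (f s))) :
    (L.map fun r => C.X F r (f r)).prod = C.wordX F C.posL (fun q => if q ∈ L then f q else 0) := by
  have hperm : (C.posL.filter fun q => decide (q ∈ L)).Perm L := by
    refine (List.perm_ext_iff_of_nodup ((C.posL_sorted.imp (fun h => ne_of_lt h)).filter _) hn).2 fun q => ?_
    simp only [List.mem_filter, C.mem_posL, decide_eq_true_eq]
    exact ⟨fun h => h.2, fun h => ⟨hpos q h, h⟩⟩
  have e : ∀ P : List (Rt D), C.wordX F P (fun q => if q ∈ L then f q else 0) =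
      ((P.filter fun q => decide (q ∈ L)).map fun r => C.X F r (f r)).prod := by
    intro P
    induction P with
    | nil => rfl
    | cons a P ih =>
      show C.X F a (if a ∈ L then f a else 0) * C.wordX F P _ = _
      rw [ih, List.filter_cons]
      by_cases ha : a ∈ L
      · simp [ha]
      · simp [ha, C.X_zero]
  rw [e]
  refine List.Perm.prod_eq' (hperm.symm.map _) ?_
  refine List.pairwise_map.2 (List.pairwise_of_forall_mem_list fun r hr s hs => hcomm r hr s hs)

theorem commute_even {r s : Rt D} (h : s = r ∨ (s ≠ r.rev ∧ EvenTerms D r s)) (t u : F) :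
    Commute (C.X F r t) (C.X F s u) := by
  rcases h with rfl | ⟨h1, h2⟩
  · exact commute_X H (fun e => C.ne_rev s e.symm) (fun e => absurd rfl e) t u
  · exact commute_X H h1 (fun _ => h2) t u

theorem exists_word_comm {L : List (Rt D)} (hn : L.Nodup)
    (hcomm : ∀ r ∈ L, ∀ s ∈ L, s = r ∨ (s ≠ r.rev ∧ EvenTerms D r s)) {g : GL D.Idx F}
    (hg : g ∈ C.US F {x | x ∈ L}) : ∃ f : Rt D → F, g = (L.map fun r => C.X F r (f r)).prod := by
  induction hg using Subgroup.closure_induction with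
  | mem x hx =>
    obtain ⟨s, hs, t, rfl⟩ := hx
    refine ⟨fun q => if q = s then t else 0, ?_⟩
    symm
    have : ∀ P : List (Rt D), P.Nodup → (P.map fun r => C.X F r (if r = s then t else 0)).prod =
        if s ∈ P then C.X F s t else 1 := by
      intro P hP
      induction P with
      | nil => simp
      | cons a P ih =>
        rw [List.nodup_cons] at hP
        rw [List.map_cons, List.prod_cons, ih hP.2]
        by_cases ha : a = s
        · subst ha; simp [hP.1]
        · simp [ha, C.X_zero, Ne.symm ha]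
    rw [this L hn, if_pos (show s ∈ L from hs)]
  | one => exact ⟨0, (List.prod_eq_one fun g hg => by
      rw [List.mem_map] at hg; obtain ⟨r, -, rfl⟩ := hg; exact C.X_zero F r).symm⟩
  | mul x y _ _ hx hy =>
    obtain ⟨f, rfl⟩ := hx
    obtain ⟨f', rfl⟩ := hy
    refine ⟨f + f', ?_⟩
    have : ∀ P : List (Rt D), (∀ r ∈ P, r ∈ L) → (P.map fun r => C.X F r (f r)).prod *
        (P.map fun r => C.X F r (f' r)).prod = (P.map fun r => C.X F r ((f + f') r)).prod := by
      intro P hP
      induction P with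
      | nil => simp
      | cons a P ih =>
        have hc : Commute ((P.map fun r => C.X F r (f r)).prod) (C.X F a (f' a)) :=
          Commute.list_prod_left _ _ fun g hg => by
            rw [List.mem_map] at hg
            obtain ⟨r, hr, rfl⟩ := hg
            exact commute_even H (hcomm r (hP r (List.mem_cons_of_mem _ hr)) a (hP a (List.mem_cons_self ..))) _ _
        simp only [List.map_cons, List.prod_cons]
        rw [show (f + f') a = f a + f' a from rfl, ← C.X_add]
        rw [mul_assoc, ← mul_assoc (P.map fun r => C.X F r (f r)).prod, hc.eq, mul_assoc (C.X F a (f' a)),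
          ih (fun r hr => hP r (List.mem_cons_of_mem _ hr))]
        simp only [mul_assoc]
    exact this L fun r hr => hr
  | inv x _ hx =>
    obtain ⟨f, rfl⟩ := hx
    refine ⟨-f, ?_⟩
    rw [inv_eq_iff_mul_eq_one]
    have : ∀ P : List (Rt D), (∀ r ∈ P, r ∈ L) → (P.map fun r => C.X F r (f r)).prod *
        (P.map fun r => C.X F r ((-f) r)).prod = 1 := by
      intro P hP
      induction P with
      | nil => simp
      | cons a P ih =>
        have hc : Commute ((P.map fun r => C.X F r (f r)).prod) (C.X F a (-f a)) :=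
          Commute.list_prod_left _ _ fun g hg => by
            rw [List.mem_map] at hg
            obtain ⟨r, hr, rfl⟩ := hg
            exact commute_even H (hcomm r (hP r (List.mem_cons_of_mem _ hr)) a (hP a (List.mem_cons_self ..))) _ _
        simp only [List.map_cons, List.prod_cons, Pi.neg_apply]
        rw [mul_assoc, ← mul_assoc (P.map fun r => C.X F r (f r)).prod, hc.eq, ← mul_assoc, ← mul_assoc,
          C.X_add, add_neg_cancel, C.X_zero, one_mul]
        exact ih fun r hr => hP r (List.mem_cons_of_mem _ hr)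
    exact this L fun r hr => hr

variable {Z T : List (Rt D)} {M : List (Rt D × Rt D)} {R LP LN : List (Rt D)} {K : Fin D.rank → List ℤ}

/-- Conjugates of the element by `U` differ from it by an element of the upper part. -/
theorem orbit_mem (hc : Cert2 D C.p Z T M R LP LN K) {u : GL D.Idx F} (hu : u ∈ C.US F C.Pos) :
    (zElt C Z F)⁻¹ * (u * zElt C Z F * u⁻¹) ∈ C.US F {x | x ∈ T} := by
  set N := Subgroup.normalizer (C.US F {x | x ∈ T} : Set (GL D.Idx F))
  have hTT : ∀ r : Rt D, r ∈ C.Pos → ∀ t, C.X F r t ∈ N := fun r hr t =>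
    mem_normalizer' H (fun s hs => ⟨fun e => by
        have h1 := C.ht_pos (show s ∈ C.Pos from hc.pos s (List.mem_append_right _ hs))
        have h2 := C.ht_neg (C.rev_neg hr)
        rw [← e] at h2; omega,
      (hc.orbit r hr s (List.mem_append_right _ hs))⟩) t
  have hN : C.US F C.Pos ≤ N := (Subgroup.closure_le _).2 fun g ⟨r, hr, t, e⟩ => e ▸ hTT r hr t
  have hvN : zElt C Z F ∈ N := by
    refine hN (list_prod_mem fun g hg => ?_)
    rw [List.mem_map] at hg
    obtain ⟨r, hr, rfl⟩ := hg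
    exact C.X_mem_US F (hc.pos r (List.mem_append_left _ hr)) 1
  set v := zElt C Z F
  -- one root element
  have key : ∀ r : Rt D, r ∈ C.Pos → ∀ t, v⁻¹ * (C.X F r t * v * (C.X F r t)⁻¹) ∈ C.US F {x | x ∈ T} := by
    intro r hr t
    have hz : ∀ z ∈ Z, (C.X F z 1)⁻¹ * (C.X F r t * C.X F z 1 * (C.X F r t)⁻¹) ∈ C.US F {x | x ∈ T} := by
      intro z hz
      by_cases hzr : z = r
      · subst hzr
        rw [C.X_inv, C.X_inv, C.X_add, C.X_add, C.X_add, show -1 + (t + 1 + -t) = (0 : F) by ring, C.X_zero]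
        exact one_mem _
      have hne : z ≠ r.rev := fun e => by
        have h1 := C.ht_pos (show z ∈ C.Pos from hc.pos z (List.mem_append_left _ hz))
        have h2 := C.ht_neg (C.rev_neg hr)
        rw [← e] at h2; omega
      have e := H.comm_X r z hzr hne (-t) 1
      rw [C.X_inv F r t, mul_assoc (C.X F r t), e, ← mul_assoc (C.X F r t), ← mul_assoc (C.X F r t),
        C.X_add, add_neg_cancel, C.X_zero, one_mul, inv_mul_cancel_left]
      refine list_prod_mem fun g hg => ?_
      rw [List.mem_map] at hg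
      obtain ⟨c, hcc, rfl⟩ := hg
      rcases (hc.orbit r hr z (List.mem_append_left _ hz)).resolve_left hzr c hcc with h | h
      · have h0 : ((c.2.1 : ℤ) : F) = 0 :=
          (CharP.intCast_eq_zero_iff F 2 _).2 (Int.dvd_of_emod_eq_zero h)
        unfold Core.XN
        split_ifs with hk
        · rw [h0, zero_mul, zero_mul, C.X_zero]; exact one_mem _
        · exact one_mem _
      · rw [List.mem_map] at h
        obtain ⟨q, hq, hqc⟩ := h
        exact C.XN_mem_US F (S := {x | x ∈ T}) hq hqc.symm _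
    have : ∀ P : List (Rt D), (∀ z ∈ P, z ∈ Z) →
        ((P.map fun z => C.X F z 1).prod)⁻¹ *
          (C.X F r t * (P.map fun z => C.X F z 1).prod * (C.X F r t)⁻¹) ∈ C.US F {x | x ∈ T} := by
      intro P hP
      induction P with
      | nil => simp
      | cons a P ih =>
        have hPN : (P.map fun z => C.X F z 1).prod ∈ N := hN (list_prod_mem fun g hg => by
          rw [List.mem_map] at hg
          obtain ⟨z, hz', rfl⟩ := hg
          exact C.X_mem_US F (hc.pos z (List.mem_append_left _ (hP z (List.mem_cons_of_mem _ hz')))) 1)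
        set P' := (P.map fun z => C.X F z 1).prod
        have e : (C.X F a 1 * P')⁻¹ * (C.X F r t * (C.X F a 1 * P') * (C.X F r t)⁻¹) =
            (P'⁻¹ * ((C.X F a 1)⁻¹ * (C.X F r t * C.X F a 1 * (C.X F r t)⁻¹)) * P'⁻¹⁻¹) *
              (P'⁻¹ * (C.X F r t * P' * (C.X F r t)⁻¹)) := by group
        rw [List.map_cons, List.prod_cons, e]
        exact mul_mem ((Subgroup.mem_normalizer_iff.1 (inv_mem hPN) _).1 (hz a (hP a (List.mem_cons_self ..))))
          (ih fun z hz' => hP z (List.mem_cons_of_mem _ hz'))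
    exact this Z fun z hz' => hz'
  induction hu using Subgroup.closure_induction with
  | mem x hx => obtain ⟨r, hr, t, rfl⟩ := hx; exact key r hr t
  | one => simp
  | mul x y hx _ h1 h2 =>
    have e : v⁻¹ * (x * y * v * (x * y)⁻¹) =
        v⁻¹ * (x * v * x⁻¹) * (x * (v⁻¹ * (y * v * y⁻¹)) * x⁻¹) := by group
    rw [e]
    exact mul_mem h1 ((Subgroup.mem_normalizer_iff.1 (hN hx) _).1 h2)
  | inv x hx h1 =>
    have e : v⁻¹ * (x⁻¹ * v * x⁻¹⁻¹) = x⁻¹ * (v⁻¹ * (x * v * x⁻¹))⁻¹ * x⁻¹⁻¹ := by group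
    rw [e]
    exact (Subgroup.mem_normalizer_iff.1 (inv_mem (hN hx)) _).1 (inv_mem h1)

end Cfsg.Agent.Lib.RootCent.General
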