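import Cfsg.Agent.Lib.RootCent.General
import Cfsg.Agent.Lib.RootPairs.Main

/-! The centraliser theorem for a certified product of root elements. -/

set_option autoImplicit false
set_option linter.unusedSectionVars false

open Cfsg.Lie Cfsg.Agent.Lib.ChevStructure
open scoped MatrixGroups
open DoubleCoset

namespace Cfsg.Agent.Lib.RootCent.Main

open Cfsg.Agent.Lib.RootCent.Basic Cfsg.Agent.Lib.RootCent.General
open Cfsg.Agent.Lib.RootPairs.LongPair (IsLong)

variable {D : ChevalleyDatum} {C : Core D}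

theorem isLong_pprod_iff (C : Core D) (L : List (Fin D.rank)) (r : Rt D) :
    IsLong D (C.pprod L r) ↔ IsLong D r := by
  constructor
  · intro h x h1 h2
    have := h (C.pprod L x) ((C.pprod L).injective.ne h1)
      (fun e => h2 ((C.pprod L).injective (by rw [e, C.pprod_rev])))
    rwa [C.pprod_pr] at this
  · exact fun h => Cfsg.Agent.Lib.RootPairs.Main.isLong_pprod C h L

theorem prod_chA (C : Core D) {F : Type*} [Field F] (c : Fin D.rank → Fˣ) :
    ∀ P : List (ℤ × Rt D), (P.map fun kr => C.chA c kr.2 ^ kr.1).prod =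
      ∏ j, c j ^ (P.map fun kr => kr.1 * A D j kr.2).sum
  | [] => by simp
  | kr :: P => by
    simp only [List.map_cons, List.prod_cons, List.sum_cons, prod_chA C c P, zpow_add,
      Finset.prod_mul_distrib]
    congr 1
    rw [Core.chA, ← Finset.prod_zpow]
    exact Finset.prod_congr rfl fun j _ => by rw [← zpow_mul, mul_comm]

variable {F : Type*} [Field F] [CharP F 2]
variable {Z T : List (Rt D)} {M : List (Rt D × Rt D)} {R LP LN : List (Rt D)} {K : Fin D.rank → List ℤ}

/-- An element of `N` fixing the roots of `Z` lies in `H · ⟨X_{±p_j}⟩`. -/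
theorem wprod_mem' (hdes : ∀ i, (∃ s : Rt D, 2 * s.val < D.nroots ∧ ∀ r ∈ Z, pr D s r = A D i r) →
      ∀ r ∈ Z, A D i r = 0) :
    ∀ (n : ℕ) (L : List (Fin D.rank)), L.length ≤ n → (∀ r ∈ Z, C.pprod L r = r) →
      C.wprod F L ∈ D.diagonalSubgroup F ⊔ C.US F (levi C Z) := by
  intro n
  induction n with
  | zero =>
    intro L hL _
    rw [List.length_eq_zero_iff.1 (Nat.le_zero.1 hL)]
    exact one_mem _
  | succ n ih =>
    intro L hL hfix
    by_cases h1 : C.pprod L = 1
    · obtain ⟨c, hc⟩ := C.wprod_eq_HT_of_pprod_eq_one F h1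
      rw [hc]
      exact Subgroup.mem_sup_left (C.HT_mem_diagonal c)
    obtain ⟨i, hi⟩ := C.exists_descent h1
    have hJ : i ∈ Jset D Z := hdes i ⟨C.pprod L (C.p i), hi, fun r hr => by
      conv_lhs => rw [← hfix r hr]
      rw [C.pprod_pr, C.pr_p]⟩
    obtain ⟨L', c, hl, hw, hp⟩ := C.exchange F L i hi
    have hfix' : ∀ r ∈ Z, C.pprod L' r = r := fun r hr => by
      have : C.w i r = r := C.v_inj (by rw [C.v_w, hJ r hr, zero_smul, sub_zero])
      rw [← hp, Equiv.Perm.mul_apply, C.sref_apply, this, hfix r hr]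
    have hP : C.P F i ∈ D.diagonalSubgroup F ⊔ C.US F (levi C Z) :=
      Subgroup.mem_sup_right (nR_mem_levi C Z hJ 1)
    rw [eq_mul_inv_of_mul_eq hw]
    exact mul_mem (mul_mem (Subgroup.mem_sup_left (C.HT_mem_diagonal c)) (ih L' (by omega) hfix'))
      (inv_mem hP)

variable (H : CommOK C)
include H

theorem commute_moves (hc : Cert2 D C.p Z T M R LP LN K) {mq : Rt D × Rt D} (hmq : mq ∈ M) (a : F) :
    ∀ P : List (Rt D), (∀ z ∈ P, z ∈ Z) →
      C.X F mq.1 a * (P.map fun z => C.X F z 1).prod * (C.X F mq.1 a)⁻¹ =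
        (P.map fun z => C.X F z 1).prod *
          C.X F mq.2 (((P.filter fun z => decide (¬ EvenTerms D z mq.1)).length : F) * a)
  | [], _ => by simp [C.X_zero]
  | z :: P, hP => by
    obtain ⟨hqT, hsingle, -, hcq⟩ := hc.moves mq hmq
    have hz : z ∈ Z := hP z (List.mem_cons_self ..)
    obtain ⟨hne1, hne2⟩ := hc.sources mq hmq z hz
    have ih := commute_moves hc hmq a P fun y hy => hP y (List.mem_cons_of_mem _ hy)
    have hqL : ∀ (y : Rt D), y ∈ Z → ∀ t u : F, Commute (C.X F mq.2 t) (C.X F y u) := fun y hy t u =>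
      commute_even H (hc.comm mq.2 (List.mem_append_right _ hqT) y (List.mem_append_left _ hy)) t u
    have hPq : ∀ t, Commute (C.X F mq.2 t) (P.map fun z => C.X F z 1).prod := fun t =>
      Commute.list_prod_right _ _ fun g hg => by
        rw [List.mem_map] at hg
        obtain ⟨y, hy, rfl⟩ := hg
        exact hqL y (hP y (List.mem_cons_of_mem _ hy)) t 1
    have hstep : C.X F mq.1 a * C.X F z 1 * (C.X F mq.1 a)⁻¹ =
        C.X F z 1 * C.X F mq.2 (if EvenTerms D z mq.1 then 0 else a) := by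
      by_cases he : EvenTerms D z mq.1
      · rw [if_pos he, C.X_zero, mul_one, ← (commute_even H (Or.inr ⟨hne2, he⟩) 1 a).eq, mul_inv_cancel_right]
      · rw [if_neg he]
        obtain ⟨c, -, hterms, hq, hodd, hi, hj⟩ := (hsingle z hz).resolve_left he
        have e := H.comm_X z mq.1 hne1.symm hne2 1 a
        rw [hterms] at e
        have hcF : ((c.2.1 : ℤ) : F) = 1 := by
          have h2 : ((c.2.1 - 1 : ℤ) : F) = 0 :=
            (CharP.intCast_eq_zero_iff F 2 _).2 (show (2 : ℤ) ∣ c.2.1 - 1 by omega)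
          rw [Int.cast_sub, Int.cast_one, sub_eq_zero] at h2
          exact h2
        simp only [List.map_cons, List.map_nil, List.prod_cons, List.prod_nil, mul_one, hq, C.XN_fin,
          hi, hj, pow_one, hcF, one_mul, CharTwo.neg_eq] at e
        have hcm : Commute (C.X F mq.1 a) (C.X F mq.2 a) :=
          commute_even H ((hcq mq hmq).2.imp id fun h => ⟨(hcq mq hmq).1, h⟩) a a
        rw [e, mul_assoc (C.X F z 1), hcm.eq, ← mul_assoc, mul_inv_cancel_right]
    have e : C.X F mq.1 a * (C.X F z 1 * (P.map fun z => C.X F z 1).prod) * (C.X F mq.1 a)⁻¹ =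
        (C.X F mq.1 a * C.X F z 1 * (C.X F mq.1 a)⁻¹) *
          (C.X F mq.1 a * (P.map fun z => C.X F z 1).prod * (C.X F mq.1 a)⁻¹) := by group
    rw [List.map_cons, List.prod_cons, e, hstep, ih, mul_assoc (C.X F z 1), ← mul_assoc (C.X F mq.2 _),
      (hPq _).eq, mul_assoc _ (C.X F mq.2 _), C.X_add, ← mul_assoc]
    congr 2
    by_cases he : EvenTerms D z mq.1
    · simp [he]
    · simp [he]; ring

theorem centralizer_eq (hc : Cert2 D C.p Z T M R LP LN K) :
    D.group F ⊓ Subgroup.centralizer {zElt C Z F} = C.US F {x | x ∈ LP ++ LN ++ R} := by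
  classical
  set v0 := zElt C Z F with hv0
  have hfix : ∀ x ∈ C.US F {x | x ∈ LP ++ LN ++ R}, Commute x v0 := by
    intro x hx
    induction hx using Subgroup.closure_induction with
    | mem y hy =>
      obtain ⟨s, hs, t, rfl⟩ := hy
      refine Commute.list_prod_right _ _ fun g hg => ?_
      rw [List.mem_map] at hg
      obtain ⟨z, hz, rfl⟩ := hg
      exact (commute_even H (hc.fixed z hz s hs) 1 t).symm
    | one => exact Commute.one_left _
    | mul y z _ _ hy hz => exact hy.mul_left hz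
    | inv y _ hy => exact hy.inv_left
  refine le_antisymm ?_ (le_inf (C.US_le_group _) fun x hx =>
    Subgroup.mem_centralizer_singleton_iff.2 (hfix x hx).eq)
  intro g hgg
  obtain ⟨hg, hgz⟩ := Subgroup.mem_inf.1 hgg
  rw [Subgroup.mem_centralizer_singleton_iff] at hgz
  obtain ⟨n, hn, hgn⟩ := H.exists_bruhat hg
  obtain ⟨a, ha, b, hb, rfl⟩ := mem_doubleCoset.1 hgn
  obtain ⟨v, hv, k, hk, rfl⟩ := C.mem_borel_iff.1 ha
  obtain ⟨v', hv', k', hk', rfl⟩ := C.mem_borel_iff.1 hb
  set m := k * n * k' with hm_def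
  set v'' := k'⁻¹ * v' * k' with hv''_def
  have hv'' : v'' ∈ C.US F C.Pos :=
    (Subgroup.mem_normalizer_iff.1 (inv_mem (C.diag_le_normalizer C.Pos hk')) v').1 hv' |> fun h => by
      simpa [hv''_def] using h
  have hgm : v * k * n * (v' * k') = v * m * v'' := by
    simp only [hm_def, hv''_def, mul_assoc, mul_inv_cancel_left]
  rw [hgm] at hgz ⊢
  have hmN : m ∈ D.monomialSubgroup F :=
    mul_mem (mul_mem (Subgroup.mem_sup_left hk) hn) (Subgroup.mem_sup_left hk')
  obtain ⟨c, W, hmW⟩ := C.exists_word_monomial hmN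
  have hact : C.Acts m (C.pprod W) := hmW ▸ C.acts_HT_wprod F c W
  -- the two conjugates as products over `Z ++ T`
  have hword : ∀ u ∈ C.US F C.Pos, ∃ f : Rt D → F, (∀ z ∈ Z, f z = 1) ∧
      u * v0 * u⁻¹ = ((Z ++ T).map fun r => C.X F r (f r)).prod := by
    intro u hu
    obtain ⟨hnd, hdisj⟩ := List.nodup_append.1 hc.nodup |>.2
    obtain ⟨f, hf⟩ := exists_word_comm H hnd (fun r hr s hs =>
      hc.comm r (List.mem_append_right _ hr) s (List.mem_append_right _ hs)) (orbit_mem H hc hu)
    refine ⟨fun r => if r ∈ Z then 1 else f r, fun z hz => if_pos hz, ?_⟩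
    rw [List.map_append, List.prod_append]
    have e1 : (Z.map fun r => C.X F r (if r ∈ Z then 1 else f r)).prod = v0 := by
      rw [hv0, zElt]
      exact congrArg List.prod (List.map_congr_left fun r hr => by rw [if_pos hr])
    have e2 : (T.map fun r => C.X F r (if r ∈ Z then 1 else f r)).prod =
        (T.map fun r => C.X F r (f r)).prod :=
      congrArg List.prod (List.map_congr_left fun r hr => by
        rw [if_neg (fun h => hdisj r h r hr rfl)])
    rw [e1, e2, ← hf, mul_inv_cancel_left]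
  obtain ⟨f1, hf1, hw1⟩ := hword v'' hv''
  obtain ⟨f2, hf2, hw2⟩ := hword v⁻¹ (inv_mem hv)
  have hrel : m * (v'' * v0 * v''⁻¹) * m⁻¹ = v⁻¹ * v0 * v⁻¹⁻¹ := by
    calc m * (v'' * v0 * v''⁻¹) * m⁻¹ = v⁻¹ * ((v * m * v'') * v0) * (v''⁻¹ * m⁻¹) := by group
      _ = v⁻¹ * (v0 * (v * m * v'')) * (v''⁻¹ * m⁻¹) := by rw [hgz]
      _ = _ := by group
  choose e he using hact
  have hLc : ∀ f : Rt D → F, ∀ r ∈ Z ++ T, ∀ s ∈ Z ++ T, Commute (C.X F r (f r)) (C.X F s (f s)) :=
    fun f r hr s hs => commute_even H (hc.comm r hr s hs) _ _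
  let φ := (MulAut.conj m).toMonoidHom
  have hφ : ∀ r, φ (C.X F r (f1 r)) = C.X F (C.pprod W r) ((e r : F) * f1 r) := fun r => he r (f1 r)
  set Lp := (Z ++ T).filter fun r => decide (C.pprod W r ∈ C.Pos) with hLp
  set Ln := (Z ++ T).filter fun r => !decide (C.pprod W r ∈ C.Pos) with hLn
  have hperm : (Lp ++ Ln).Perm (Z ++ T) := List.filter_append_perm _ _
  have hsplit : ((Z ++ T).map fun r => C.X F r (f1 r)).prod =
      (Lp.map fun r => C.X F r (f1 r)).prod * (Ln.map fun r => C.X F r (f1 r)).prod := by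
    rw [← List.prod_append, ← List.map_append]
    exact List.Perm.prod_eq' (hperm.symm.map _)
      (List.pairwise_map.2 (List.pairwise_of_forall_mem_list fun r hr s hs => hLc f1 r hr s hs))
  have hp : φ (Lp.map fun r => C.X F r (f1 r)).prod ∈ C.US F C.Pos := by
    rw [map_list_prod, List.map_map]
    refine list_prod_mem fun x hx => ?_
    rw [List.mem_map] at hx
    obtain ⟨r, hr, rfl⟩ := hx
    rw [Function.comp_apply, hφ]
    refine C.X_mem_US F ?_ _
    simpa using (List.mem_filter.1 hr).2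
  have hneg : φ (Ln.map fun r => C.X F r (f1 r)).prod ∈ C.US F C.Neg := by
    rw [map_list_prod, List.map_map]
    refine list_prod_mem fun x hx => ?_
    rw [List.mem_map] at hx
    obtain ⟨r, hr, rfl⟩ := hx
    rw [Function.comp_apply, hφ]
    refine C.X_mem_US F ((C.neg_iff_not_pos _).2 ?_) _
    simpa using (List.mem_filter.1 hr).2
  have hpos2 : ((Z ++ T).map fun r => C.X F r (f2 r)).prod ∈ C.US F C.Pos := by
    refine list_prod_mem fun x hx => ?_
    rw [List.mem_map] at hx
    obtain ⟨r, hr, rfl⟩ := hx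
    exact C.X_mem_US F (hc.pos r hr) _
  have hmain : φ (Lp.map fun r => C.X F r (f1 r)).prod * φ (Ln.map fun r => C.X F r (f1 r)).prod =
      ((Z ++ T).map fun r => C.X F r (f2 r)).prod := by
    rw [← map_mul, ← hsplit, ← hw1, ← hw2]; exact hrel
  have hn1 : φ (Ln.map fun r => C.X F r (f1 r)).prod = 1 := by
    rw [← Subgroup.mem_bot, ← C.borel_inf_negUS]
    refine ⟨C.posUS_le_borel ?_, hneg⟩
    rw [eq_inv_mul_iff_mul_eq.2 hmain]
    exact mul_mem (inv_mem hp) hpos2
  have hLn0 : ∀ r ∈ Ln, f1 r = 0 := by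
    have h1 : (Ln.map fun r => C.X F r (f1 r)).prod = 1 :=
      (MulAut.conj m).injective (hn1.trans (map_one _).symm)
    have hsub : ∀ r ∈ Ln, r ∈ Z ++ T := fun r hr => (List.mem_filter.1 hr).1
    rw [prod_pos_unique H (hc.nodup.filter _) (fun r hr => hc.pos r (hsub r hr)) f1
      (fun r hr s hs => hLc f1 r (hsub r hr) s (hsub s hs))] at h1
    intro r hr
    have h0 : C.wordX F C.posL (fun _ => (0 : F)) = 1 := List.prod_eq_one fun g hg => by
      rw [List.mem_map] at hg; obtain ⟨q, -, rfl⟩ := hg; exact C.X_zero F q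
    have := C.wordX_unique F C.posL_sorted (fun q hq => C.mem_posL.1 hq) (h1.trans h0.symm) r
      (C.mem_posL.2 (hc.pos r (hsub r hr)))
    rw [if_pos hr] at this
    exact this
  -- compare coefficients
  let f3 : Rt D → F := fun q => (e ((C.pprod W).symm q) : F) * f1 ((C.pprod W).symm q)
  have hmap3 : ∀ r, C.X F (C.pprod W r) (f3 (C.pprod W r)) = φ (C.X F r (f1 r)) := fun r => by
    rw [hφ]; simp [f3]
  have hpd : φ (Lp.map fun r => C.X F r (f1 r)).prod = ((Lp.map (C.pprod W)).map fun q => C.X F q (f3 q)).prod := by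
    rw [map_list_prod, List.map_map, List.map_map]
    exact congrArg List.prod (List.map_congr_left fun r _ => (hmap3 r).symm)
  rw [hn1, mul_one, hpd, prod_pos_unique H ((hc.nodup.filter _).map (C.pprod W).injective)
      (fun q hq => by
        rw [List.mem_map] at hq
        obtain ⟨r, hr, rfl⟩ := hq
        simpa using (List.mem_filter.1 hr).2) f3
      (fun q hq q' hq' => by
        rw [List.mem_map] at hq hq'
        obtain ⟨r, hr, rfl⟩ := hq
        obtain ⟨r', hr', rfl⟩ := hq'
        rw [hmap3, hmap3]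
        exact (hLc f1 r (List.mem_filter.1 hr).1 r' (List.mem_filter.1 hr').1).map φ),
    prod_pos_unique H hc.nodup (fun r hr => hc.pos r hr) f2 (hLc f2)] at hmain
  have hZ : ∀ z ∈ Z, C.pprod W z ∈ Z ++ T ∧ (e z : F) = f2 (C.pprod W z) := by
    intro z hz
    have hzp : z ∈ Lp := by
      by_contra h
      have : z ∈ Ln := by
        have hzL : z ∈ Z ++ T := List.mem_append_left _ hz
        rw [hLp, List.mem_filter] at h
        rw [hLn, List.mem_filter]
        exact ⟨hzL, by simpa [hzL] using h⟩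
      have := hLn0 z this
      rw [hf1 z hz] at this
      exact one_ne_zero this
    have hpz : C.pprod W z ∈ C.Pos := by simpa using (List.mem_filter.1 hzp).2
    have := C.wordX_unique F C.posL_sorted (fun q hq => C.mem_posL.1 hq) hmain (C.pprod W z) (C.mem_posL.2 hpz)
    rw [if_pos (List.mem_map_of_mem hzp)] at this
    simp only [f3, Equiv.symm_apply_apply, hf1 z hz, mul_one] at this
    by_cases hL : C.pprod W z ∈ Z ++ T
    · rw [if_pos hL] at this; exact ⟨hL, this⟩
    · rw [if_neg hL] at this; exact absurd this (e z).ne_zero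
  have hrigid : Z.map (C.pprod W) = Z := by
    refine hc.rigid _ ?_ ⟨?_, ?_⟩
    · rw [List.mem_sections, List.forall₂_map_left_iff, List.forall₂_map_right_iff, List.forall₂_same]
      exact fun z hz => (hZ z hz).1
    · intro x hx y hy
      rw [List.zip_map_right, List.mem_map] at hx hy
      obtain ⟨⟨x1, x2⟩, hx, rfl⟩ := hx
      obtain ⟨⟨y1, y2⟩, hy, rfl⟩ := hy
      rw [List.zip_eq_zipWith, List.zipWith_self, List.mem_map] at hx hy
      obtain ⟨_, -, hx⟩ := hx
      obtain ⟨_, -, hy⟩ := hy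
      cases hx; cases hy
      simp [C.pprod_pr]
    · intro x hx
      rw [List.zip_map_right, List.mem_map] at hx
      obtain ⟨⟨x1, x2⟩, hx, rfl⟩ := hx
      rw [List.zip_eq_zipWith, List.zipWith_self, List.mem_map] at hx
      obtain ⟨_, -, hx⟩ := hx
      cases hx
      simpa using (isLong_pprod_iff C W _).symm
  have hfixroot : ∀ z ∈ Z, C.pprod W z = z := List.map_inj_left.1 (hrigid.trans (List.map_id' Z).symm)
  have he1 : ∀ z ∈ Z, (e z : F) = 1 := fun z hz => by
    rw [(hZ z hz).2, hfixroot z hz, hf2 z hz]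
  -- the monomial part lies in the Levi subgroup
  have hlevi : C.US F (levi C Z) ≤ C.US F {x | x ∈ LP ++ LN} := by
    refine C.US_mono F ?_
    rintro s ⟨j, hj, rfl | rfl⟩
    · exact List.mem_append_left _ (hc.lp j hj)
    · exact List.mem_append_right _ (hc.ln j hj)
  have hLle : C.US F {x | x ∈ LP ++ LN} ≤ C.US F {x | x ∈ LP ++ LN ++ R} :=
    C.US_mono F fun x hx => List.mem_append_left R hx
  have hwl := wprod_mem' (C := C) hc.descent W.length W le_rfl hfixroot (F := F)
  rw [← SetLike.mem_coe, Subgroup.coe_mul_of_left_le_normalizer_right _ _ (C.diag_le_normalizer _),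
    Set.mem_mul] at hwl
  obtain ⟨d, hd, x, hx, hdx⟩ := hwl
  obtain ⟨c', hc'⟩ := C.mem_diagonal_iff.1 hd
  have hmx : m = C.HT F (c * c') * x := by rw [hmW, ← hdx, hc', ← mul_assoc, C.HT_mul]
  have hxfix : ∀ z ∈ Z, Commute x (C.X F z 1) := by
    intro z hz
    have : ∀ y ∈ C.US F {x | x ∈ LP ++ LN}, Commute y (C.X F z 1) := by
      intro y hy
      induction hy using Subgroup.closure_induction with
      | mem w hw =>
        obtain ⟨s, hs, t, rfl⟩ := hw
        exact (commute_even H (hc.fixed z hz s (List.mem_append_left R hs)) 1 t).symm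
      | one => exact Commute.one_left _
      | mul y z _ _ h1 h2 => exact h1.mul_left h2
      | inv y _ h1 => exact h1.inv_left
    exact this x (hlevi hx)
  have hchi : ∀ z ∈ Z, C.chA (c * c') z = 1 := by
    intro z hz
    have h : m * C.X F z 1 * m⁻¹ = C.X F z 1 := by rw [he z 1, hfixroot z hz, he1 z hz, one_mul]
    rw [hmx, mul_inv_rev, show C.HT F (c * c') * x * C.X F z 1 * (x⁻¹ * (C.HT F (c * c'))⁻¹) =
      C.HT F (c * c') * (x * C.X F z 1 * x⁻¹) * (C.HT F (c * c'))⁻¹ by group, (hxfix z hz).eq,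
      mul_inv_cancel_right, C.HT_X_conj] at h
    exact Units.ext ((mul_one _).symm.trans (X_inj C h))
  have hc1 : ∀ i, i ∉ Jset D Z → (c * c') i = 1 := by
    intro i hi
    have hKi := (hc.torus i).resolve_left hi
    have := prod_chA C (c * c') ((K i).zip Z)
    rw [List.prod_eq_one (fun g hg => by
        rw [List.mem_map] at hg
        obtain ⟨kr, hkr, rfl⟩ := hg
        rw [hchi _ (List.of_mem_zip hkr).2, one_zpow])] at this
    simp only [hKi] at this
    rw [Finset.prod_eq_single i (fun j _ hj => by rw [if_neg hj, zpow_zero]) (by simp), if_pos rfl,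
      zpow_one] at this
    exact this.symm
  have hmL : m ∈ C.US F {x | x ∈ LP ++ LN} := by
    rw [hmx]; exact hlevi (mul_mem (HT_mem_levi C Z hc1) hx)
  -- reorganise `g = W · k` with `W` in `U`
  set UJ : List (Rt D) := M.map Prod.fst ++ R with hUJ
  have hnorm : C.US F {x | x ∈ LP ++ LN} ≤ Subgroup.normalizer (C.US F {x | x ∈ UJ} : Set (GL D.Idx F)) := by
    refine (Subgroup.closure_le _).2 ?_
    rintro y ⟨s, hs, t, rfl⟩
    exact mem_normalizer' H (fun x hx => hc.levi_norm s hs x hx) t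
  have hLPle : C.US F {x | x ∈ LP} ≤ C.US F {x | x ∈ LP ++ LN} :=
    C.US_mono F fun x hx => List.mem_append_left LN hx
  have hUsplit : ∀ u ∈ C.US F C.Pos, ∃ l ∈ C.US F {x | x ∈ LP ++ LN}, ∃ w ∈ C.US F {x | x ∈ UJ}, u = l * w := by
    intro u hu
    have : C.US F C.Pos ≤ C.US F {x | x ∈ LP} ⊔ C.US F {x | x ∈ UJ} := by
      rw [US_union]
      refine C.US_mono F fun s hs => ?_
      have := (hc.cover s).1 hs
      exact List.mem_append.1 this
    have hmem := this hu
    rw [← SetLike.mem_coe, Subgroup.coe_mul_of_left_le_normalizer_right _ _ (hLPle.trans hnorm),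
      Set.mem_mul] at hmem
    obtain ⟨l, hl, w, hw, rfl⟩ := hmem
    exact ⟨l, hLPle hl, w, hw, rfl⟩
  have hUJpos : C.US F {x | x ∈ UJ} ≤ C.US F C.Pos :=
    C.US_mono F fun s hs => (hc.cover s).2 (List.mem_append_right LP hs)
  obtain ⟨l, hl, w, hw, hlw⟩ := hUsplit v'' hv''
  have hml : m * l ∈ C.US F {x | x ∈ LP ++ LN} := mul_mem hmL hl
  set w' := (m * l) * w * (m * l)⁻¹ with hw'_def
  have hw' : w' ∈ C.US F {x | x ∈ UJ} := (Subgroup.mem_normalizer_iff.1 (hnorm hml) w).1 hw
  have hg2 : v * m * v'' = (v * w') * (m * l) := by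
    simp only [hlw, hw'_def, mul_assoc, inv_mul_cancel, mul_one]
  rw [hg2] at hgz ⊢
  have hVfix : Commute (v * w') v0 := by
    have h1 : Commute (m * l) v0 := hfix _ (hLle hml)
    have h2 : Commute ((v * w') * (m * l)) v0 := hgz
    simpa [mul_assoc] using h2.mul_left h1.inv_left
  refine mul_mem ?_ (hLle hml)
  obtain ⟨l2, hl2, w2, hw2, e2⟩ := hUsplit (v * w') (mul_mem hv (hUJpos hw'))
  have hw2fix : Commute w2 v0 := by
    have h1 : Commute l2 v0 := hfix _ (hLle hl2)
    rw [e2] at hVfix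
    simpa [mul_assoc] using h1.inv_left.mul_left hVfix
  rw [e2]
  refine mul_mem (hLle hl2) ?_
  obtain ⟨as, hlen, s, hs, e3⟩ := exists_peel H hc.chain hw2
  have hsR : C.US F {x | x ∈ R} ≤ C.US F {x | x ∈ LP ++ LN ++ R} :=
    C.US_mono F fun x hx => List.mem_append_right _ hx
  -- the moving part is trivial
  rw [List.length_map] at hlen
  set pairs := M.zip as with hpairs
  have hpe : ((M.map Prod.fst).zip as).map (fun ma => C.X F ma.1 ma.2) =
      pairs.map fun x => C.X F x.1.1 x.2 := by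
    rw [List.zip_map_left, List.map_map]; rfl
  rw [hpe] at e3
  have hmove : ∀ P : List ((Rt D × Rt D) × F), (∀ x ∈ P, x.1 ∈ M) →
      (P.map fun x => C.X F x.1.1 x.2).prod * v0 * ((P.map fun x => C.X F x.1.1 x.2).prod)⁻¹ =
        v0 * (P.map fun x => C.X F x.1.2 x.2).prod := by
    intro P hP
    induction P with
    | nil => simp
    | cons x P ih =>
      set A' := (P.map fun x => C.X F x.1.1 x.2).prod
      set B' := (P.map fun x => C.X F x.1.2 x.2).prod
      have hx := hP x (List.mem_cons_self ..)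
      have h1 : C.X F x.1.1 x.2 * v0 * (C.X F x.1.1 x.2)⁻¹ = v0 * C.X F x.1.2 x.2 := by
        have := commute_moves H hc hx x.2 Z fun z hz => hz
        rw [(hc.moves x.1 hx).2.2.1, Nat.cast_one, one_mul] at this
        exact this
      have h2 : Commute (C.X F x.1.1 x.2) B' := Commute.list_prod_right _ _ fun g hg => by
        rw [List.mem_map] at hg
        obtain ⟨y, hy, rfl⟩ := hg
        have hq := (hc.moves x.1 hx).2.2.2 y.1 (hP y (List.mem_cons_of_mem _ hy))
        exact commute_even H (hq.2.imp id fun h => ⟨hq.1, h⟩) _ _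
      rw [List.map_cons, List.map_cons, List.prod_cons, List.prod_cons]
      calc C.X F x.1.1 x.2 * A' * v0 * (C.X F x.1.1 x.2 * A')⁻¹
          = C.X F x.1.1 x.2 * (A' * v0 * A'⁻¹) * (C.X F x.1.1 x.2)⁻¹ := by group
        _ = C.X F x.1.1 x.2 * (v0 * B') * (C.X F x.1.1 x.2)⁻¹ := by
            rw [ih fun y hy => hP y (List.mem_cons_of_mem _ hy)]
        _ = (C.X F x.1.1 x.2 * v0 * (C.X F x.1.1 x.2)⁻¹) *
              (C.X F x.1.1 x.2 * B' * (C.X F x.1.1 x.2)⁻¹) := by group
        _ = _ := by rw [h1, h2.eq, mul_inv_cancel_right, mul_assoc]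
  have hpM : ∀ x ∈ pairs, x.1 ∈ M := fun x hx => (List.of_mem_zip hx).1
  have hQ1 : (pairs.map fun x => C.X F x.1.2 x.2).prod = 1 := by
    have h1 := hmove pairs hpM
    set A' := (pairs.map fun x => C.X F x.1.1 x.2).prod
    have hA : Commute A' v0 := by
      have h2 : Commute (A' * s) v0 := e3 ▸ hw2fix
      simpa [mul_assoc] using h2.mul_left (hfix _ (hsR hs)).inv_left
    rw [hA.eq, mul_inv_cancel_right, left_eq_mul] at h1
    exact h1
  have hnd : (pairs.map fun x => x.1.2).Nodup := by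
    have : pairs.map (fun x => x.1.2) = (pairs.map Prod.fst).map Prod.snd := by rw [List.map_map]; rfl
    rw [this, hpairs, List.map_fst_zip (by omega)]
    exact hc.targets
  obtain ⟨h4, hh4⟩ : ∃ f : Rt D → F, ∀ x ∈ pairs, f x.1.2 = x.2 := by
    clear_value pairs
    clear hpairs hpe e3 hQ1 hpM
    induction pairs with
    | nil => exact ⟨0, by simp⟩
    | cons x P ih =>
      rw [List.map_cons, List.nodup_cons] at hnd
      obtain ⟨f, hf⟩ := ih hnd.2
      refine ⟨Function.update f x.1.2 x.2, fun y hy => ?_⟩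
      rcases List.mem_cons.1 hy with rfl | hy
      · exact Function.update_self ..
      · have hne : y.1.2 ≠ x.1.2 := fun h => hnd.1 (List.mem_map.2 ⟨y, hy, h⟩)
        rw [Function.update_of_ne hne, hf y hy]
  have hzero : ∀ x ∈ pairs, x.2 = 0 := by
    have e4 : (pairs.map fun x => C.X F x.1.2 x.2).prod =
        ((pairs.map fun x => x.1.2).map fun q => C.X F q (h4 q)).prod := by
      rw [List.map_map]
      exact congrArg List.prod (List.map_congr_left fun x hx => by simp [hh4 x hx])
    have hTmem : ∀ q ∈ pairs.map (fun x => x.1.2), q ∈ Z ++ T := fun q hq => by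
      rw [List.mem_map] at hq
      obtain ⟨x, hx, rfl⟩ := hq
      exact List.mem_append_right _ (hc.moves x.1 (hpM x hx)).1
    rw [e4, prod_pos_unique H hnd (fun q hq => hc.pos q (hTmem q hq)) h4
      (fun r hr s hs => hLc h4 r (hTmem r hr) s (hTmem s hs))] at hQ1
    have h0 : C.wordX F C.posL (fun _ => (0 : F)) = 1 := List.prod_eq_one fun g hg => by
      rw [List.mem_map] at hg; obtain ⟨q, -, rfl⟩ := hg; exact C.X_zero F q
    intro x hx
    have hq := hTmem _ (List.mem_map_of_mem (f := fun x => x.1.2) hx)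
    have := C.wordX_unique F C.posL_sorted (fun q hq => C.mem_posL.1 hq) (hQ1.trans h0.symm) x.1.2
      (C.mem_posL.2 (hc.pos _ hq))
    rw [if_pos (List.mem_map_of_mem (f := fun x => x.1.2) hx), hh4 x hx] at this
    exact this
  have hA1 : (pairs.map fun x => C.X F x.1.1 x.2).prod = 1 := List.prod_eq_one fun g hg => by
    rw [List.mem_map] at hg
    obtain ⟨x, hx, rfl⟩ := hg
    rw [hzero x hx, C.X_zero]
  rw [e3, hA1, one_mul]
  exact hsR hs

end Cfsg.Agent.Lib.RootCent.Main
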